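import Groth.Agent.NumBlowLib.Pic
import Groth.Agent.CanonRestrLib.Main
import Groth.Agent.QSecLib.Scheme
import Groth.Agent.HodgePnLib.Seq
import Groth.Agent.SurfRRLib.Main
import Groth.Agent.BlowRegLib.BigOpenPic
import Groth.Agent.BlowRegLib.Surface
import Groth.Agent.S7861
import Groth.Agent.S9829

/-!
# The canonical module of the blow-up of a point of a smooth surface
-/

set_option autoImplicit false
set_option linter.style.haveILetI false
set_option linter.unusedSectionVars false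
set_option maxHeartbeats 1600000
set_option backward.isDefEq.respectTransparency false
set_option backward.isDefEq.respectTransparency.types false

universe u

open CategoryTheory CategoryTheory.Limits AlgebraicGeometry TopologicalSpace Opposite
open HilbPolyLib (congrLeft congrRight)
open KFlatLib (pb)
open CubeConsLib (PicA clA clA_eq_iff pullA pullA_clA clA_tensor clA_one isInvertible_one exists_clA_zsmul pullA_comp clA_dual)
open NumBlowLib (excI eCl excI_invertible)

noncomputable section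

namespace CanonBlowFieldLib

/-- A top exterior power of the differentials of a smooth morphism is canonical. -/
theorem isCanonical_of_topDiff {X Y : Scheme.{u}} [IsLocallyNoetherian Y] (f : X ⟶ Y) (n : ℕ)
    [SmoothOfRelativeDimension n f] [QuasiSeparated f] {ω : X.Modules}
    (h : ExtPow.IsExtPow n (Omega.sheaf f) ω) : Canon.IsCanonical f ω := by
  haveI : Smooth f := SmoothOfRelativeDimension.smooth n f
  haveI : IsLocallyNoetherian X := LocallyOfFiniteType.isLocallyNoetherian f
  haveI : IsOpenImmersion (𝟙 X ≫ 𝟙 X) := by rw [Category.comp_id]; infer_instance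
  refine ⟨_, 𝟙 _, f, 0, n, Category.id_comp _, ?_, inferInstance, inferInstance, inferInstance,
    Coh.structureModule _, ω, HodgePnLib.isExtPow_zero _, h,
    ⟨HilbPolyLib.swapIso _ _ ≪≫ HilbPolyLib.unitLeft _ ≪≫ ((Scheme.Modules.pullbackId _).app ω).symm⟩⟩
  refine QSecLib.regularOfCodim_of_smooth (𝟙 _) (𝟙 _) 0 fun z => ?_
  exact FibDimLib.fibreDimAt_smoothOfRelativeDimension 0 _ _

variable {k : Type u} [Field k] [IsAlgClosed k] {X X' : Scheme.{u}} [X.Over (Spec (CommRingCat.of k))]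
  [IsProper (X ↘ Spec (CommRingCat.of k))] [X'.Over (Spec (CommRingCat.of k))]
  [IsProper (X' ↘ Spec (CommRingCat.of k))]
  [Smooth (X ↘ Spec (CommRingCat.of k))] [Smooth (X' ↘ Spec (CommRingCat.of k))] [IsIntegral X] [IsIntegral X']
  (hX : topologicalKrullDim X = 2) (hX' : topologicalKrullDim X' = 2)
  (π : X' ⟶ X) (hover : π ≫ (X ↘ Spec (CommRingCat.of k)) = X' ↘ Spec (CommRingCat.of k))
  (x : X) (hx : IsClosed ({x} : Set X))
  [IsRegularLocalRing (X.presheaf.stalk x)] (hd2 : ringKrullDim (X.presheaf.stalk x) = (2 : ℕ))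
  (hπ : BlowUp.IsBlowUp π (Scheme.IdealSheafData.vanishingIdeal ⟨{x}, hx⟩))
  {W : X.Modules} (hW : ExtPow.IsExtPow 2 (Omega.sheaf (X ↘ Spec (CommRingCat.of k))) W)
  {W' : X'.Modules} (hW' : ExtPow.IsExtPow 2 (Omega.sheaf (X' ↘ Spec (CommRingCat.of k))) W')

include hX hX' hover hd2 hπ hW hW' in
/-- `K_{X'} = π^*K_X + E`. -/
theorem canonical_eq : ∃ (hWi : PicF.IsInvertible W) (hWi' : PicF.IsInvertible W'),
    clA hWi' = pullA π (clA hWi) - eCl π x hx hπ := by
  haveI := CurvLib.isNoetherian k (X := X)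
  haveI := CurvLib.isNoetherian k (X := X')
  haveI := SurfNumLib.smoothRel_of_dim (k := k) (X := X) (by rw [hX]; rfl)
  haveI := SurfNumLib.smoothRel_of_dim (k := k) (X := X') (by rw [hX']; rfl)
  have hWi := SurfNumLib.isInvertible_canonical (k := k) hW
  have hWi' := SurfNumLib.isInvertible_canonical (k := k) hW'
  refine ⟨hWi, hWi', ?_⟩
  obtain ⟨L, hL, d, h⟩ := NumBlowLib.exists_decomp (k := k) π x hx hd2 hπ hWi'
  -- off the exceptional curve
  let V : X.Opens := ⟨({x} : Set X)ᶜ, hx.isOpen_compl⟩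
  haveI := BlowRegLib.isIso_off_centre hπ V (BlowPtLib.comap_eq_top_of_disjoint V.ι _ fun z h => by
    rw [← SetLike.mem_coe, Scheme.IdealSheafData.coe_support_vanishingIdeal] at h
    exact z.2 h)
  let s : (V : Scheme.{u}) ⟶ X' := inv (π ∣_ V) ≫ (π ⁻¹ᵁ V).ι
  have hs : s ≫ π = V.ι := by rw [Category.assoc, ← morphismRestrict_ι, IsIso.inv_hom_id_assoc]
  have h1 := CanonRestrLib.isCanonical_comp s (isCanonical_of_topDiff (X' ↘ Spec (CommRingCat.of k)) 2 hW')
  rw [← hover, ← Category.assoc, hs] at h1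
  obtain ⟨a⟩ := CanonRestrLib.nonempty_iso h1
    (CanonRestrLib.isCanonical_comp V.ι (isCanonical_of_topDiff (X ↘ Spec (CommRingCat.of k)) 2 hW))
  have hsW : pullA s (clA hWi') = pullA V.ι (clA hWi) := by
    rw [pullA_clA, pullA_clA]; exact (clA_eq_iff _ _).2 ⟨a⟩
  have hse : pullA s (eCl π x hx hπ) = 0 := by
    rw [eCl, pullA_clA, ← clA_one, clA_eq_iff]
    refine BlowPtLib.nonempty_pb_ideal_trivial s _ (excI_invertible π x hx hπ) fun v hv => ?_
    have h' : π (s v) ∈ ((Scheme.IdealSheafData.vanishingIdeal ⟨{x}, hx⟩).support : Set X) :=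
      (Scheme.IdealSheafData.support_comap _ π).le hv
    rw [Scheme.IdealSheafData.coe_support_vanishingIdeal, ← Scheme.Hom.comp_apply, hs] at h'
    exact v.2 h'
  rw [h, map_add, map_zsmul, hse, smul_zero, add_zero, pullA_comp, hs] at hsW
  have hD := HilbPolyLib.isInvertible_tensor hL (MiscFlat6.dual_isInvertible hWi)
  have hTn : ∀ v : X, IsDomain (X.presheaf.stalk v) ∧ IsIntegrallyClosed (X.presheaf.stalk v) := fun v =>
    haveI := WeilExtLib.isRegular_stalk_smooth (X ↘ Spec (CommRingCat.of k)) v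
    ⟨CommAlgDim.isDomain_of_isRegularLocalRing _, Groth.Agent.S9829.result _⟩
  have htriv : Nonempty ((CohB1.tensorMod L (MiscFlat6.dual W)).restrict V.ι ≅ Coh.structureModule (V : Scheme.{u})) := by
    refine (?_ : Nonempty (pb V.ι _ ≅ _)).map fun e => (Scheme.Modules.restrictFunctorIsoPullback V.ι).app _ ≪≫ e
    rw [← clA_eq_iff (AmpleDevLib.isInvertible_pb V.ι hD) (isInvertible_one _), clA_one, ← pullA_clA V.ι hD,
      clA_tensor hL (MiscFlat6.dual_isInvertible hWi), clA_dual hWi, map_add, map_neg, hsW, add_neg_cancel]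

  obtain ⟨t⟩ := (BlowRegLib.BigOpenPic.sections_and_pic X hTn V (fun v hv => by
    have hv' : v = x := not_not.1 hv
    rw [hv', hd2]; rfl) _ hD).2 htriv
  have hLW : clA hL = clA hWi := by
    have := (clA_eq_iff hD (isInvertible_one _)).2 ⟨t⟩
    rwa [clA_tensor hL (MiscFlat6.dual_isInvertible hWi), clA_dual hWi, clA_one, add_neg_eq_zero] at this
  rw [hLW] at h
  -- the degree on the exceptional curve
  obtain ⟨φ, hφ, hφk, -⟩ := NumBlowLib.exists_line (k := k) π x hx hd2 hπ
  haveI := hφ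
  have hI := excI_invertible π x hx hπ
  obtain ⟨-, hWE, hEE⟩ := BlowRegLib.intersection_rules (k := k) (π := π) hover x hx hd2 hπ hWi hWi
  have hX2 : topologicalKrullDim X' ≤ ((2 : ℕ) : WithBot ℕ∞) := hX'.le
  have hlin : ∀ (n : ℤ) (M : X'.Modules) (hM : PicF.IsInvertible M),
      clA hM = pullA π (clA hWi) + n • eCl π x hx hπ →
        HodgeIdxLib.pr k M (ClSub.idealMod (excI π x hx)) = -n := by
    intro n
    induction n using Int.induction_on with
    | zero =>
      intro M hM hMe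
      rw [zero_smul, add_zero, pullA_clA, clA_eq_iff] at hMe
      rw [HodgeIdxLib.pr, HodgeIdxLib.N_congr_head hMe.some, neg_zero]
      exact hWE
    | succ m ih =>
      intro M hM hMe
      obtain ⟨M₁, hM₁, hM₁e⟩ := exists_clA_zsmul hI (m : ℤ)
      have hP := AmpleDevLib.isInvertible_pb π hWi
      have hQ := HilbPolyLib.isInvertible_tensor hP hM₁
      have h1 := ih _ hQ (by rw [clA_tensor hP hM₁, hM₁e, pullA_clA]; rfl)
      have h2 : Nonempty (M ≅ CohB1.tensorMod (CohB1.tensorMod (pb π W) M₁) (ClSub.idealMod (excI π x hx))) := by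
        rw [← clA_eq_iff hM (HilbPolyLib.isInvertible_tensor hQ hI), hMe, clA_tensor hQ hI, clA_tensor hP hM₁, hM₁e,
          pullA_clA, add_smul, one_smul, add_assoc]
        rfl
      rw [HodgeIdxLib.pr, HodgeIdxLib.N_congr_head h2.some, ← HodgeIdxLib.pr, HodgeIdxLib.pr_tensor hX2 hQ hI hI, h1, hEE]
      ring
    | pred m ih =>
      intro M hM hMe
      have hQ := HilbPolyLib.isInvertible_tensor hM hI
      have h1 := ih _ hQ (by
        rw [clA_tensor hM hI, hMe, eCl, add_assoc, show -(m : ℤ) - 1 = -(m : ℤ) + -1 by ring, add_smul, neg_one_smul,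
          neg_add_cancel_right])
      rw [HodgeIdxLib.pr_tensor hX2 hM hI hI, hEE] at h1
      omega
  letI : (excI π x hx).subscheme.Over (Spec (CommRingCat.of k)) :=
    ⟨(excI π x hx).subschemeι ≫ (X' ↘ Spec (CommRingCat.of k))⟩
  haveI : IsProper ((excI π x hx).subscheme ↘ Spec (CommRingCat.of k)) :=
    inferInstanceAs (IsProper ((excI π x hx).subschemeι ≫ (X' ↘ Spec (CommRingCat.of k))))
  letI : (CohB1.ProjSpace 1 k).Over (Spec (CommRingCat.of k)) := ⟨CohB1.ProjSpace.toSpec 1 k⟩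
  have hE0 : Curv2.euler k (excI π x hx).subscheme (Coh.structureModule (excI π x hx).subscheme) = 1 := by
    obtain ⟨z⟩ := PicPnLib.twist_zero 1 k
    haveI : Coh.IsQCoh (Twist.twistProjSpace 1 k 0) :=
      FinLFAnn.isQCoh_of_isFinLocFree (AmpleDevLib.isFinLocFree_of_isInvertible (PicPnLib.twist_inv 1 k 0))
    rw [← CurvLib.euler_congr (k := k) ((Scheme.Modules.pullback φ).mapIso z ≪≫ KFlatLib.pullUnitIso φ),
      BlowPtLib.euler_pb_iso φ (hφk.trans (congrArg ((excI π x hx).subschemeι ≫ ·) hover)) (Twist.twistProjSpace 1 k 0),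
      BlowPtLib.euler_twist_line rfl]
    norm_num
  haveI : ConnectedSpace X' := inferInstance
  have hadj := Groth.Agent.S7861.result k X' hX' W' hW' _ (excI π x hx).subschemeι
    (by rw [Scheme.IdealSheafData.ker_subschemeι]; exact hI)
  rw [Scheme.IdealSheafData.ker_subschemeι, SurfNumLib.intNum_eq_pr_two hX', SurfNumLib.intNum_eq_pr_two hX',
    hEE, HodgeIdxLib.pr_comm, hlin d W' hWi' h, hE0] at hadj
  obtain rfl : d = -1 := by omega
  rw [h, neg_one_smul, sub_eq_add_neg]

include hX hX' hover hd2 hπ hW hW' in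
/-- Formula and self-intersection. -/
theorem canonical_blowUp :
    Nonempty (CohB1.tensorMod W' (ClSub.idealMod (excI π x hx)) ≅ pb π W) ∧
      HodgeIdxLib.pr k W' W' = HodgeIdxLib.pr k W W - 1 := by
  haveI := CurvLib.isNoetherian k (X := X)
  obtain ⟨hWi, hWi', h⟩ := canonical_eq (k := k) hX hX' π hover x hx hd2 hπ hW hW'
  have hI := excI_invertible π x hx hπ
  have hP := AmpleDevLib.isInvertible_pb π hWi
  have hQ := HilbPolyLib.isInvertible_tensor hWi' hI
  obtain ⟨e⟩ : Nonempty (CohB1.tensorMod W' (ClSub.idealMod (excI π x hx)) ≅ pb π W) := by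
    rw [← clA_eq_iff hQ hP, clA_tensor hWi' hI, h, pullA_clA, eCl, sub_add_cancel]
  refine ⟨⟨e⟩, ?_⟩
  obtain ⟨hWW, hWE, hEE⟩ := BlowRegLib.intersection_rules (k := k) (π := π) hover x hx hd2 hπ hWi hWi
  have hX2 : topologicalKrullDim X' ≤ ((2 : ℕ) : WithBot ℕ∞) := hX'.le
  have key : ∀ {Q : X'.Modules}, PicF.IsInvertible Q → HodgeIdxLib.pr k (pb π W) Q =
      HodgeIdxLib.pr k W' Q + HodgeIdxLib.pr k (ClSub.idealMod (excI π x hx)) Q := fun {Q} hQ' => by
    rw [← HodgeIdxLib.pr_tensor hX2 hWi' hI hQ', HodgeIdxLib.pr, HodgeIdxLib.pr, HodgeIdxLib.N_congr_head e.symm]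
  have k1 := key hP
  have k2 := key hI
  have k3 := key hWi'
  rw [HodgeIdxLib.pr_comm (k := k) W' (pb π W), HodgeIdxLib.pr_comm (k := k) (ClSub.idealMod (excI π x hx)) (pb π W)] at k1
  rw [HodgeIdxLib.pr_comm (k := k) (ClSub.idealMod (excI π x hx)) W'] at k3
  rw [hWW, hWE] at k1
  rw [hWE, hEE] at k2
  omega

end CanonBlowFieldLib

end
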